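import Cfsg.Agent.H38.E6Deg.Frame

/-!
The lower bound `q¹¹ - q⁸ + q⁷ + q⁵ - q⁴ + q - 2` for the representations of `²E₆(q)` in which
the long root subgroup acts non-trivially.

Roots are numbered as in the tables: `71` is the highest root, `46` the fundamental root adjacent to
its opposite, `39` the next one, `47` their sum.
-/
set_option autoImplicit false
set_option maxRecDepth 100000
set_option maxHeartbeats 1000000

namespace Cfsg.Agent.H38.E6Deg

open Cfsg.Lie Cfsg.Agent.H37 Cfsg.Agent.H37.RootSys Cfsg.Agent.H37.Twist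
  Cfsg.Agent.H37.NormalForm Cfsg.Agent.H38.HeisDeg Module
open Cfsg.Agent.H37.Twist.E6 (tables QE)

/-- The roots above the lowest root of the radical pairing with it. -/
def A0p : List ℕ := [47, 48, 50, 49, 61, 51, 52, 62, 63]
def A0 : List ℕ := 46 :: A0p
def B0 : List ℕ := [53, 54, 64, 55, 67, 65, 66, 68, 69, 70]
def A1 : List ℕ := [63, 62, 52, 61, 49, 51, 50, 48, 47]
def B1 : List ℕ := [11, 12, 26, 13, 30, 27, 28, 31, 32]
def S0 : List ℕ := [47, 48, 49, 50, 51, 52, 61, 62, 63, 71]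
def T3 : List ℕ :=
  [47, 48, 49, 50, 51, 52, 53, 54, 55, 61, 62, 63, 64, 65, 66, 67, 68, 69, 71]
def T4 : List ℕ :=
  [47, 48, 49, 50, 51, 52, 53, 54, 55, 61, 62, 63, 64, 65, 66, 67, 68, 69, 70, 71]
def posR : List ℕ := List.range' 36 36
def Ta : List ℕ := posR.filter fun r => decide (r ≠ 46)
def T1s : List ℕ := posR.filter fun r => decide (r ≠ 46 ∧ r ≠ 39 ∧ r ≠ 47)
def Rs : List ℕ := posR.filter fun r => decide (r ≠ 46 ∧ r ≠ 47)
def Tb : List ℕ := posR.filter fun r => decide (r ≠ 39)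
def Tab : List ℕ := posR.filter fun r => decide (r ≠ 39 ∧ r ≠ 46)
/-- The roots of the radical and the centre. -/
def QZ : List ℕ :=
  [71, 46, 47, 48, 50, 49, 61, 51, 52, 62, 53, 54, 64, 63, 55, 67, 65, 66, 68, 69, 70]

def cB : List (ℕ × ℕ × ℕ) :=
  [(53, 14, 67), (54, 14, 68), (55, 15, 66), (65, 29, 68), (66, 38, 64), (69, 37, 68)]
def cU : List (ℕ × ℕ × ℕ) :=
  [(39, 14, 58), (40, 14, 59), (41, 29, 45), (44, 15, 59), (45, 38, 43), (60, 36, 59)]
def cJ : List (ℕ × ℕ × ℕ) := [(36, 34, 38), (37, 35, 38), (38, 36, 37)]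
/-- The roots acting by scalars. -/
def scalR : List ℕ :=
  [14, 15, 29, 33, 34, 35, 36, 37, 38, 42, 56, 57, 53, 54, 55, 64, 65, 66, 67, 68, 69]
def U1 : List ℕ := [39, 40, 41, 43, 44, 45, 58, 59, 60]

variable {K : Type*} [Field K] [Fintype K] {φ : K →+* K} {q : ℕ}
  (hφ : ∀ t, φ t = t ^ q) (hK : Fintype.card K = q ^ 2)
  {V : Type*} [AddCommGroup V] [Module ℂ V] [FiniteDimensional ℂ V]
  (π : Representation ℂ ↥(setup hφ hK).P V)

local notation "cf6" => Chevalley.E6.cert.cf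
local notation "w6" => Chevalley.E6.cert.w
local notation "sg6" => Chevalley.E6.cert.sg
local notation "τ6" => tables.rh

theorem bound_arith {q n m : ℕ} (hq : 2 ≤ q) (h : (q - 1) * q ^ 10 + n ≤ m)
    (h' : (q - 1) * (q ^ 9 * 2) ≤ n) :
    q ^ 11 + q ^ 7 + q ^ 5 + q ≤ m + q ^ 8 + q ^ 4 + 2 := by
  obtain ⟨p, rfl⟩ : ∃ p, q = p + 2 := ⟨q - 2, by omega⟩
  rw [show p + 2 - 1 = p + 1 from rfl] at h h'
  have e : (p + 1) * (p + 2) ^ 10 + (p + 1) * ((p + 2) ^ 9 * 2) + (p + 2) ^ 8 =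
      (p + 2) ^ 11 + (p + 2) ^ 7 + (p + 2) ^ 5 + (p + 2) +
        (p * (p + 2) ^ 9 + ((p + 2) ^ 8 - (p + 2) ^ 7 - (p + 2) ^ 5 - (p + 2))) := by
    have h1 : (p + 2) ^ 7 + (p + 2) ^ 5 + (p + 2) ≤ (p + 2) ^ 8 := by
      have a1 : (p + 2) ^ 5 ≤ (p + 2) ^ 6 := Nat.pow_le_pow_right (by omega) (by omega)
      have a2 : p + 2 ≤ (p + 2) ^ 6 := Nat.le_self_pow (by omega) _
      have a3 : 2 * (p + 2) ^ 6 ≤ (p + 2) ^ 7 := by
        rw [pow_succ' _ 6]; exact Nat.mul_le_mul_right _ (by omega)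
      have a4 : 2 * (p + 2) ^ 7 ≤ (p + 2) ^ 8 := by
        rw [pow_succ' _ 7]; exact Nat.mul_le_mul_right _ (by omega)
      omega
    have h2 : (p + 1) * (p + 2) ^ 10 + (p + 1) * ((p + 2) ^ 9 * 2) =
        (p + 2) ^ 11 + p * (p + 2) ^ 9 := by ring
    omega
  omega

theorem orb_sub {r : ℕ} {T : List ℕ} (h : r ∈ T) (h' : τ6 r ∈ T) :
    ∀ x ∈ orb τ6 r, x ∈ T := by
  intro x hx
  unfold orb at hx
  split at hx <;> simp only [List.mem_cons, List.not_mem_nil, or_false] at hx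
  · exact hx ▸ h
  · rcases hx with rfl | rfl
    exacts [h, h']

theorem scal_checks : scalR.all (fun r => normB chevE6 (orb τ6 r) S0 &&
      shiftB chevE6 46 (orb τ6 r) S0) = true ∧
    U1.all (fun r => normB chevE6 (orb τ6 r) T4 && shiftB chevE6 46 (orb τ6 r) T4) = true := by
  decide +kernel

/-- The vector fixed by all positive root subgroups but the lowest one of the radical. -/
theorem fixed_line (d : (setup hφ hK).Datum 46 A1 B1)
    {ε : AddChar ((setup hφ hK).FV [46]) ℂ} {v : V}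
    (hv : v ∈ d.M π ((setup hφ hK).Fx π [71]) ε) (hv0 : v ≠ 0)
    (hdim : finrank ℂ (d.M π ((setup hφ hK).Fx π [71]) ε) ≤ 1) :
    v ∈ (setup hφ hK).Fx π Ta := by
  have tA : (setup hφ hK).Triv π v A1 := fun h u => hv.2.1 u
  have hS0 : v ∈ (setup hφ hK).Fx π S0 := by
    refine (setup hφ hK).mem_Fx π (by (try simp only [setup_τ, data_K]); decide +kernel) fun r hr => ?_
    have hc : r = 71 ∨ (r ∈ A1 ∧ τ6 r ∈ A1) :=
      (show ∀ r ∈ S0, r = 71 ∨ (r ∈ A1 ∧ τ6 r ∈ A1) by decide +kernel) r hr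
    rcases hc with rfl | ⟨h1, h2⟩
    · exact (setup hφ hK).Triv_of_Fx π hv.1 (by (try simp only [setup_τ, data_K]); decide +kernel)
    · exact Setup.Triv.sub (π := π) (setup hφ hK) d.Aab tA (orb_sub h1 h2)
  have hsub0 : (∀ r ∈ [71], r ∈ S0) ∧ (∀ r ∈ A1, r ∈ S0) := by decide +kernel
  have hsR : ∀ r ∈ scalR, (setup hφ hK).Scal π v (orb τ6 r) := fun r hr => by
    have hc := List.all_eq_true.1 scal_checks.1 r hr
    simp only [Bool.and_eq_true] at hc
    exact d.scal_list hv hv0 hdim hS0 hc.1 hc.2 hsub0.1 hsub0.2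
  have tB : ∀ r, (∃ c ∈ cB, r = c.1 ∨ r = τ6 c.1) → (setup hφ hK).Triv π v (orb τ6 r) := fun r hr =>
    (setup hφ hK).triv_of_certs cB (by (try simp only [setup_τ, data_K]); decide +kernel) hv0 (fun c hc => by
      have h := (show ∀ c ∈ cB, c.2.1 ∈ scalR ∧ c.2.2 ∈ scalR by decide +kernel) c hc
      exact ⟨hsR _ h.1, hsR _ h.2⟩) hr
  have hT3 : v ∈ (setup hφ hK).Fx π T3 := by
    refine (setup hφ hK).mem_Fx π (by (try simp only [setup_τ, data_K]); decide +kernel) fun r hr => ?_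
    rcases (show ∀ r ∈ T3, (r ∈ S0 ∧ τ6 r ∈ S0) ∨ (∃ c ∈ cB, r = c.1 ∨ r = τ6 c.1) by
      decide +kernel) r hr with ⟨h1, h2⟩ | h
    · exact (setup hφ hK).Triv_of_Fx π hS0 (orb_sub h1 h2)
    · exact tB r h
  have h60 : (setup hφ hK).Scal π v (orb τ6 60) := by
    rw [show orb τ6 60 = [60] by decide +kernel]
    exact d.scal_one hv hv0 hdim hT3 (by (try simp only [setup_τ, data_K]); decide +kernel) (by (try simp only [setup_τ, data_K]); decide +kernel) (by (try simp only [setup_τ, data_K]); decide +kernel)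
      (by decide)
  have t70 : (setup hφ hK).Triv π v (orb τ6 70) :=
    (setup hφ hK).triv_of_certs [(70, 53, 60)] (by (try simp only [setup_τ, data_K]); decide +kernel) hv0 (fun c hc => by
      rw [List.mem_singleton] at hc
      subst hc
      exact ⟨hsR 53 (by decide), h60⟩) ⟨_, List.mem_singleton_self _, Or.inl rfl⟩
  have hT4 : v ∈ (setup hφ hK).Fx π T4 := by
    refine (setup hφ hK).mem_Fx π (by (try simp only [setup_τ, data_K]); decide +kernel) fun r hr => ?_
    rcases (show ∀ r ∈ T4, r = 70 ∨ (r ∈ T3 ∧ τ6 r ∈ T3) by decide +kernel) r hr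
      with rfl | ⟨h1, h2⟩
    · exact t70
    · exact (setup hφ hK).Triv_of_Fx π hT3 (orb_sub h1 h2)
  have hsub4 : (∀ r ∈ [71], r ∈ T4) ∧ (∀ r ∈ A1, r ∈ T4) := by decide +kernel
  have hsU : ∀ r ∈ U1, (setup hφ hK).Scal π v (orb τ6 r) := fun r hr => by
    have hc := List.all_eq_true.1 scal_checks.2 r hr
    simp only [Bool.and_eq_true] at hc
    exact d.scal_list hv hv0 hdim hT4 hc.1 hc.2 hsub4.1 hsub4.2
  refine (setup hφ hK).mem_Fx π (by (try simp only [setup_τ, data_K]); decide +kernel) fun r hr => ?_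
  rcases (show ∀ r ∈ Ta, (r ∈ T4 ∧ τ6 r ∈ T4) ∨ (∃ c ∈ cU ++ cJ, r = c.1 ∨ r = τ6 c.1) by
    decide +kernel) r hr with ⟨h1, h2⟩ | h
  · exact (setup hφ hK).Triv_of_Fx π hT4 (orb_sub h1 h2)
  · refine (setup hφ hK).triv_of_certs (cU ++ cJ) (by (try simp only [setup_τ, data_K]); decide +kernel) hv0 (fun c hc => ?_) h
    obtain ⟨h1, h2⟩ := (show ∀ c ∈ cU ++ cJ, (c.2.1 ∈ scalR ∨ c.2.1 ∈ U1) ∧
      (c.2.2 ∈ scalR ∨ c.2.2 ∈ U1) by decide +kernel) c hc
    exact ⟨h1.elim (hsR _) (hsU _), h2.elim (hsR _) (hsU _)⟩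

/-- The bound. -/
theorem bound (hZ : ∃ (h : Ab chevE6 (setup hφ hK).τ [71]) (s : (setup hφ hK).FV [71]),
      π ((setup hφ hK).el h s) ≠ 1) :
    q ^ 11 + q ^ 7 + q ^ 5 + q ≤ finrank ℂ V + q ^ 8 + q ^ 4 + 2 := by
  have tor : ∀ z, torB z = true → (setup hφ hK).TorusAt z := fun z h => torus_at hφ hK h
  have wf : ∀ os, (setup hφ hK).σ (nw (QE K) (wd os)) = nw (QE K) (wd os) := word_fixed hφ hK
  have hab : Ab chevE6 (setup hφ hK).τ [46] := Ab.of_check (by (try simp only [setup_τ, data_K]); decide +kernel)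
  obtain ⟨h0, x0, hx0, s0, hs0⟩ := (setup hφ hK).centre (π := π) (Z := 71) (a := 46) (A := A0) (B := B0)
    (by (try simp only [setup_τ, data_K]); decide +kernel) (by (try simp only [setup_τ, data_K]); decide +kernel) (tor 71 (by (try simp only [setup_τ, data_K]); decide +kernel)) (by decide)
    (by (try simp only [setup_τ, data_K]); decide +kernel) (wf [3, 2, 1, 2, 0, 1, 2]) (by (try simp only [setup_τ, data_K]); decide +kernel) hab hZ
  have d : (setup hφ hK).Datum 46 A1 B1 :=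
    Setup.Datum.of_check (setup hφ hK) (by (try simp only [setup_τ, data_K]); decide +kernel) (tor 46 (by (try simp only [setup_τ, data_K]); decide +kernel))
  obtain ⟨ε, hε, v, hv, hv0⟩ := d.exists_M (T := [71]) (by (try simp only [setup_τ, data_K]); decide +kernel) (by (try simp only [setup_τ, data_K]); decide +kernel)
    (by (try simp only [setup_τ, data_K]); decide +kernel) hx0 hs0
  have hn := d.count (π := π) (T := [71]) (by (try simp only [setup_τ, data_K]); decide +kernel) (by (try simp only [setup_τ, data_K]); decide +kernel) hε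
  rw [(setup hφ hK).card_FV B1 d.Bab (by (try simp only [setup_τ, data_K]); decide +kernel), show B1.length = 9 from rfl] at hn
  rw [show B0.length = 10 from rfl] at h0
  have hq : 2 ≤ q := (setup hφ hK).q_two
  by_cases hdim : finrank ℂ (d.M π ((setup hφ hK).Fx π [71]) ε) ≤ 1
  swap
  · have h2 := Nat.mul_le_mul_left (q ^ 9)
      (show 2 ≤ finrank ℂ (d.M π ((setup hφ hK).Fx π [71]) ε) by omega)
    have h3 := Nat.mul_le_mul_left (q - 1) h2
    exact bound_arith hq h0 (by omega)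
  have hvT := fixed_line hφ hK π d hv hv0 hdim
  have dc : (setup hφ hK).Datum 47 [46] [39] :=
    Setup.Datum.of_check (setup hφ hK) (by (try simp only [setup_τ, data_K]); decide +kernel) (tor 47 (by (try simp only [setup_τ, data_K]); decide +kernel))
  obtain ⟨x, hx, hb, sb, hsb⟩ := (setup hφ hK).second (a := 46) (b := 39) (c := 47) (a' := 25) (wa := wd [3])
    (wb := wd [2]) (Z1 := [71]) (Ta := Ta) (T1 := T1s) (R := Rs) (Tb := Tb) (Tab := Tab)
    (by (try simp only [setup_τ, data_K]); decide +kernel) d dc (wf [3]) (wf [2]) hε hv hv0 hvT hdim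
  obtain ⟨sa, hsa⟩ := AddChar.ne_one_iff.1 hε
  have hva : ∃ (h : Ab chevE6 (setup hφ hK).τ [46]) (s : (setup hφ hK).FV [46]), π ((setup hφ hK).el h s) v ≠ v :=
    ⟨d.zab, sa, fun e => hsa (smul_left_injective ℂ hv0
      (((hv.2.2 sa).symm.trans e).trans (one_smul ℂ v).symm))⟩
  have hxb : ∃ (h : Ab chevE6 (setup hφ hK).τ [39]) (s : (setup hφ hK).FV [39]), π ((setup hφ hK).el h s) x ≠ x := ⟨hb, sb, hsb⟩
  have c1 := (setup hφ hK).cell (z := 46) (A := A1) (B := B1) (F := [71]) (F' := [71, 46])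
    (ws := wd []) (T0 := Ta) (z0 := 46)
    (by (try simp only [setup_τ, data_K]); decide +kernel) (tor _ (by (try simp only [setup_τ, data_K]); decide +kernel)) (wf _) hvT hva
  have c2 := (setup hφ hK).cell (z := 47) (A := [65, 64, 54, 61, 49, 53, 50, 48])
    (B := [11, 12, 26, 14, 33, 27, 29, 34]) (F := [71, 46]) (F' := QZ.take 7)
    (ws := wd [2]) (T0 := Ta) (z0 := 46)
    (by (try simp only [setup_τ, data_K]); decide +kernel) (tor _ (by (try simp only [setup_τ, data_K]); decide +kernel)) (wf _) hvT hva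
  have c3 := (setup hφ hK).cell (z := 51) (A := [69, 67, 55, 62, 52, 53]) (B := [11, 13, 30, 15, 35, 32])
    (F := QZ.take 7) (F' := QZ.take 10) (ws := wd [1, 2]) (T0 := Ta) (z0 := 46)
    (by (try simp only [setup_τ, data_K]); decide +kernel) (tor _ (by (try simp only [setup_τ, data_K]); decide +kernel)) (wf _) hvT hva
  have c4 := (setup hφ hK).cell (z := 53) (A := [70, 67, 55, 64, 54]) (B := [11, 14, 33, 15, 35])
    (F := QZ.take 10) (F' := QZ.take 13) (ws := wd [2, 1, 2]) (T0 := Ta) (z0 := 46)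
    (by (try simp only [setup_τ, data_K]); decide +kernel) (tor _ (by (try simp only [setup_τ, data_K]); decide +kernel)) (wf _) hvT hva
  have c5 := (setup hφ hK).cell (z := 63) (A := [69, 68, 66, 65]) (B := [27, 28, 31, 32])
    (F := QZ.take 13) (F' := QZ.take 16) (ws := wd [0, 1, 2]) (T0 := Ta) (z0 := 46)
    (by (try simp only [setup_τ, data_K]); decide +kernel) (tor _ (by (try simp only [setup_τ, data_K]); decide +kernel)) (wf _) hvT hva
  have c6 := (setup hφ hK).cell (z := 65) (A := [70, 68, 66]) (B := [27, 29, 34])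
    (F := QZ.take 16) (F' := QZ.take 19) (ws := wd [2, 0, 1, 2]) (T0 := Ta) (z0 := 46)
    (by (try simp only [setup_τ, data_K]); decide +kernel) (tor _ (by (try simp only [setup_τ, data_K]); decide +kernel)) (wf _) hvT hva
  have c7 := (setup hφ hK).cell (z := 69) (A := [70]) (B := [32])
    (F := QZ.take 19) (F' := QZ.take 20) (ws := wd [1, 2, 0, 1, 2]) (T0 := Ta) (z0 := 46)
    (by (try simp only [setup_τ, data_K]); decide +kernel) (tor _ (by (try simp only [setup_τ, data_K]); decide +kernel)) (wf _) hvT hva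
  have c8 := (setup hφ hK).cell (z := 70) (A := []) (B := [])
    (F := QZ.take 20) (F' := QZ) (ws := wd [2, 1, 2, 0, 1, 2]) (T0 := Ta) (z0 := 46)
    (by (try simp only [setup_τ, data_K]); decide +kernel) (tor _ (by (try simp only [setup_τ, data_K]); decide +kernel)) (wf _) hvT hva
  have c9 := (setup hφ hK).cell (z := 60) (A := [56, 36, 57, 38]) (B := [58, 41, 59, 45])
    (F := QZ) (F' := 60 :: QZ) (ws := wd [0, 1]) (T0 := Tb) (z0 := 39)
    (by (try simp only [setup_τ, data_K]); decide +kernel) (tor _ (by (try simp only [setup_τ, data_K]); decide +kernel)) (wf _) hx hxb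
  have c10 := (setup hφ hK).cell (z := 44) (A := [42, 37]) (B := [43, 40])
    (F := 60 :: QZ) (F' := 44 :: 60 :: QZ) (ws := wd [1]) (T0 := Tb) (z0 := 39)
    (by (try simp only [setup_τ, data_K]); decide +kernel) (tor _ (by (try simp only [setup_τ, data_K]); decide +kernel)) (wf _) hx hxb
  have c11 := (setup hφ hK).cell (z := 39) (A := []) (B := [])
    (F := 44 :: 60 :: QZ) (F' := 39 :: 44 :: 60 :: QZ) (ws := wd []) (T0 := Tb) (z0 := 39)
    (by (try simp only [setup_τ, data_K]); decide +kernel) (tor _ (by (try simp only [setup_τ, data_K]); decide +kernel)) (wf _) hx hxb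
  simp only [List.length_cons, List.length_nil, Nat.zero_add, Nat.reduceAdd,
    show B1.length = 9 from rfl, pow_zero, mul_one] at c1 c2 c3 c4 c5 c6 c7 c8 c9 c10 c11
  obtain ⟨p, hp⟩ : ∃ p, q = p + 1 := ⟨q - 1, by omega⟩
  have hid : (q - 1) * q ^ 10 + ((q - 1) * q ^ 9 + (q - 1) * q ^ 8 + (q - 1) * q ^ 6 +
      (q - 1) * q ^ 5 + (q - 1) * q ^ 4 + (q - 1) * q ^ 3 + (q - 1) * q ^ 1 + (q - 1) +
      (q - 1) * q ^ 4 + (q - 1) * q ^ 2 + (q - 1)) + q ^ 8 + q ^ 4 + 2 =
      q ^ 11 + q ^ 7 + q ^ 5 + q := by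
    rw [hp, Nat.add_sub_cancel]
    ring
  omega

end Cfsg.Agent.H38.E6Deg
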