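import Mathlib

/-!
The two values just below `q (q⁶ - q³ + 1) (q⁴ + 1)` are no divisors of the order of `²E₆(q)`.
-/
set_option autoImplicit false
set_option maxRecDepth 100000

namespace Cfsg.Agent.H38.E6Deg

/-- The order without the factor from the centre. -/
def ordP (q : ℕ) : ℕ :=
  q ^ 36 * (q ^ 2 - 1) * (q ^ 5 + 1) * (q ^ 6 - 1) * (q ^ 8 - 1) * (q ^ 9 + 1) * (q ^ 12 - 1)

/-- Replacing factors by their combinations with `M`. -/
theorem dvd_repl {M : ℤ} : ∀ (l : List (ℤ × ℤ)) (c : ℤ),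
    (∀ p ∈ l, ∃ u v : ℤ, u * M + v * p.1 = p.2) → M ∣ c * (l.map Prod.fst).prod →
      M ∣ c * (l.map Prod.snd).prod
  | [], c, _, h => h
  | p :: l, c, hl, h => by
      obtain ⟨u, v, e⟩ := hl p (by simp)
      simp only [List.map_cons, List.prod_cons] at h ⊢
      rw [← mul_assoc]
      refine dvd_repl l (c * p.2) (fun r hr => hl r (by simp [hr])) ?_
      rw [← e, show c * (u * M + v * p.1) * (l.map Prod.fst).prod =
        M * (c * u * (l.map Prod.fst).prod) + v * (c * (p.1 * (l.map Prod.fst).prod)) by ring]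
      exact dvd_add (dvd_mul_right _ _) (dvd_mul_of_dvd_right h v)

theorem cast_ordP {q : ℕ} (hq : 1 ≤ q) : ((ordP q : ℕ) : ℤ) =
    (q : ℤ) ^ 36 * ((q : ℤ) ^ 2 - 1) * ((q : ℤ) ^ 5 + 1) * ((q : ℤ) ^ 6 - 1) *
      ((q : ℤ) ^ 8 - 1) * ((q : ℤ) ^ 9 + 1) * ((q : ℤ) ^ 12 - 1) := by
  unfold ordP
  push_cast [Nat.cast_sub (Nat.one_le_pow _ q hq)]
  ring

theorem small_one : ∀ q : Fin 9, 2 ≤ q.val → ∀ d : ℕ,
    d + q.val ^ 8 + q.val ^ 4 + 1 = q.val ^ 11 + q.val ^ 7 + q.val ^ 5 + q.val →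
      ordP q.val % d ≠ 0 := by
  intro q h2 d hd
  fin_cases q <;> simp_all [ordP] <;> subst_vars <;> omega

theorem small_two : ∀ q : Fin 13, 2 ≤ q.val → ∀ d : ℕ,
    d + q.val ^ 8 + q.val ^ 4 + 2 = q.val ^ 11 + q.val ^ 7 + q.val ^ 5 + q.val →
      ordP q.val % d ≠ 0 := by
  intro q h2 d hd
  fin_cases q <;> simp_all [ordP] <;> subst_vars <;> omega

theorem one_below_not_dvd {q d : ℕ} (hq : 2 ≤ q)
    (hd : d + q ^ 8 + q ^ 4 + 1 = q ^ 11 + q ^ 7 + q ^ 5 + q) : ¬ d ∣ ordP q := by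
  intro h
  by_cases hs : q < 9
  · exact small_one ⟨q, hs⟩ hq d hd (Nat.mod_eq_zero_of_dvd h)
  have h' := Int.natCast_dvd_natCast.2 h
  rw [cast_ordP (by omega)] at h'
  have hd' : (d : ℤ) = (q : ℤ) ^ 11 + (q : ℤ) ^ 7 + (q : ℤ) ^ 5 + q - (q : ℤ) ^ 8 -
      (q : ℤ) ^ 4 - 1 := by
    have := congrArg (fun n : ℕ => (n : ℤ)) hd
    push_cast at this
    linarith
  set x : ℤ := (q : ℤ) with hx
  set M : ℤ := x ^ 7 + x ^ 5 - x ^ 4 + x ^ 3 - x ^ 2 + x - 1 with hM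
  have hc : x ^ 4 - x ^ 2 + 1 ≠ 0 := by nlinarith [sq_nonneg (x ^ 2 - 1), sq_nonneg x]
  let l : List (ℤ × ℤ) :=
    List.replicate 36 (x, 1) ++ List.replicate 4 (x - 1, 1) ++ List.replicate 6 (x + 1, 7) ++
      List.replicate 2 (x ^ 2 + x + 1, 1) ++ List.replicate 2 (x ^ 2 + 1, 1) ++
      List.replicate 3 (x ^ 2 - x + 1, 1) ++ [(x ^ 4 + 1, 1), (x ^ 4 - x ^ 3 + x ^ 2 - x + 1, 1),
        (x ^ 6 - x ^ 3 + 1, 1)]
  have h1 : M ∣ 1 * (l.map Prod.fst).prod := by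
    rw [hd', show x ^ 11 + x ^ 7 + x ^ 5 + x - x ^ 8 - x ^ 4 - 1 = (x ^ 4 - x ^ 2 + 1) * M by
        rw [hM]; ring,
      show x ^ 36 * (x ^ 2 - 1) * (x ^ 5 + 1) * (x ^ 6 - 1) * (x ^ 8 - 1) * (x ^ 9 + 1) *
        (x ^ 12 - 1) = (x ^ 4 - x ^ 2 + 1) * (1 * (l.map Prod.fst).prod) by
          simp only [l, List.map_append, List.map_replicate, List.prod_append,
            List.prod_replicate, List.map_cons, List.map_nil, List.prod_cons, List.prod_nil]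
          ring] at h'
    exact (mul_dvd_mul_iff_left hc).1 h'
  have h2 := dvd_repl l 1 (fun p hp => ?_) h1
  swap
  · simp only [l, List.mem_append, List.mem_replicate, List.mem_cons, List.not_mem_nil,
      or_false] at hp
    rcases hp with (((((⟨-, rfl⟩ | ⟨-, rfl⟩) | ⟨-, rfl⟩) | ⟨-, rfl⟩) | ⟨-, rfl⟩) | ⟨-, rfl⟩) |
      rfl | rfl | rfl
    · exact ⟨-1, x ^ 6 + x ^ 4 - x ^ 3 + x ^ 2 - x + 1, by rw [hM]; ring⟩
    · exact ⟨1, -2 - x - 2 * x ^ 2 - x ^ 3 - 2 * x ^ 4 - x ^ 5 - x ^ 6, by rw [hM]; ring⟩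
    · exact ⟨-1, 6 - 5 * x + 4 * x ^ 2 - 3 * x ^ 3 + 2 * x ^ 4 - x ^ 5 + x ^ 6,
        by rw [hM]; ring⟩
    · exact ⟨-1 - x, x ^ 6, by rw [hM]; ring⟩
    · exact ⟨-1, x - x ^ 2 + x ^ 5, by rw [hM]; ring⟩
    · exact ⟨1 - x, 2 - 2 * x ^ 3 + x ^ 6, by rw [hM]; ring⟩
    · exact ⟨x ^ 2, 1 + x ^ 2 - x ^ 3 - x ^ 5, by rw [hM]; ring⟩
    · exact ⟨-x + x ^ 2, 1 + x ^ 2 - x ^ 5, by rw [hM]; ring⟩
    · exact ⟨-1 + x ^ 2 - x ^ 4, x + x ^ 5, by rw [hM]; ring⟩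
  simp only [l, List.map_append, List.map_replicate, List.prod_append, List.prod_replicate,
    List.map_cons, List.map_nil, List.prod_cons, List.prod_nil] at h2
  have h9 : (9 : ℤ) ≤ x := by rw [hx]; omega
  have hle := Int.le_of_dvd (by norm_num) h2
  norm_num at hle
  have e6 : (9 : ℤ) ^ 6 ≤ x ^ 6 := pow_le_pow_left₀ (by norm_num) h9 6
  have e7 : x ^ 6 * 9 ≤ x ^ 7 := by
    rw [pow_succ x 6]; exact mul_le_mul_of_nonneg_left h9 (by positivity)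
  have e5 : x ^ 4 ≤ x ^ 5 := pow_le_pow_right₀ (by linarith) (by norm_num)
  have e3 : x ^ 2 ≤ x ^ 3 := pow_le_pow_right₀ (by linarith) (by norm_num)
  rw [hM] at hle
  norm_num at e6
  linarith

theorem two_below_not_dvd {q d : ℕ} (hq : IsPrimePow q)
    (hd : d + q ^ 8 + q ^ 4 + 2 = q ^ 11 + q ^ 7 + q ^ 5 + q) : ¬ d ∣ ordP q := by
  intro h
  have h2q := hq.two_le
  by_cases hs : q < 13
  · exact small_two ⟨q, hs⟩ h2q d hd (Nat.mod_eq_zero_of_dvd h)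
  have h' := Int.natCast_dvd_natCast.2 h
  rw [cast_ordP (by omega)] at h'
  have hd' : (d : ℤ) = (q : ℤ) ^ 11 + (q : ℤ) ^ 7 + (q : ℤ) ^ 5 + q - (q : ℤ) ^ 8 -
      (q : ℤ) ^ 4 - 2 := by
    have := congrArg (fun n : ℕ => (n : ℤ)) hd
    push_cast at this
    linarith
  set x : ℤ := (q : ℤ) with hx
  set R : ℤ := 1 + x + x ^ 2 + 2 * x ^ 3 + x ^ 4 + x ^ 5 + x ^ 7 + x ^ 8 + x ^ 9 with hR
  set M : ℤ := 2 + x * R with hM
  have h13 : (13 : ℤ) ≤ x := by rw [hx]; omega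
  let l : List (ℤ × ℤ) :=
    List.replicate 3 (x - 1, 12) ++ List.replicate 6 (x + 1, 4) ++
      List.replicate 2 (x ^ 2 + x + 1, 3) ++ List.replicate 2 (x ^ 2 + 1, 4) ++
      List.replicate 3 (x ^ 2 - x + 1, 1) ++ [(x ^ 4 + 1, 2), (x ^ 4 - x ^ 3 + x ^ 2 - x + 1, 11),
        (x ^ 4 - x ^ 2 + 1, 1), (x ^ 6 - x ^ 3 + 1, 2)]
  have h1 : M ∣ x ^ 36 * (l.map Prod.fst).prod := by
    rw [hd', show x ^ 11 + x ^ 7 + x ^ 5 + x - x ^ 8 - x ^ 4 - 2 = (x - 1) * M by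
        rw [hM, hR]; ring,
      show x ^ 36 * (x ^ 2 - 1) * (x ^ 5 + 1) * (x ^ 6 - 1) * (x ^ 8 - 1) * (x ^ 9 + 1) *
        (x ^ 12 - 1) = (x - 1) * (x ^ 36 * (l.map Prod.fst).prod) by
          simp only [l, List.map_append, List.map_replicate, List.prod_append,
            List.prod_replicate, List.map_cons, List.map_nil, List.prod_cons, List.prod_nil]
          ring] at h'
    exact (mul_dvd_mul_iff_left (by linarith)).1 h'
  -- the power of `x` costs at most a factor two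
  have h2 : M ∣ 2 * (l.map Prod.fst).prod := by
    obtain ⟨y, hy⟩ | ⟨y, hy⟩ := Int.even_or_odd x
    · obtain ⟨z, hz⟩ : (4 : ℤ) ∣ x := by
        obtain ⟨p, k, hp, hk, hpk⟩ := (isPrimePow_nat_iff q).1 hq
        rcases Nat.Prime.eq_two_or_odd' hp with rfl | ho
        · obtain ⟨j, rfl⟩ : ∃ j, k = j + 2 := ⟨k - 2, by
            have : k ≠ 1 := by rintro rfl; omega
            omega⟩
          exact ⟨2 ^ j, by rw [hx, ← hpk]; push_cast; ring⟩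
        · exfalso
          have : Odd q := hpk ▸ ho.pow
          have h0 : Odd x := by rw [hx]; exact_mod_cast this
          exact (Int.not_odd_iff_even.2 ⟨y, hy⟩) h0
      set M' : ℤ := 1 + 2 * z * R with hM'
      have e : M = 2 * M' := by rw [hM, hM', hz]; ring
      have hco : IsCoprime M' x := by
        have c2 : IsCoprime M' 2 := ⟨1, -(z * R), by rw [hM']; ring⟩
        have cz : IsCoprime M' z := ⟨1, -(2 * R), by rw [hM']; ring⟩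
        rw [hz, show (4 : ℤ) * z = 2 * (2 * z) by ring]
        exact c2.mul_right (c2.mul_right cz)
      rw [e] at h1 ⊢
      exact mul_dvd_mul_left 2
        (hco.pow_right.dvd_of_dvd_mul_left ((dvd_mul_left M' 2).trans h1))
    · have hco : IsCoprime M x := by
        refine ⟨-y, 1 + y * R, ?_⟩
        rw [hM, hy]; ring
      exact dvd_mul_of_dvd_right (hco.pow_right.dvd_of_dvd_mul_left h1) 2
  have h3 := dvd_repl l 2 (fun p hp => ?_) h2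
  swap
  · simp only [l, List.mem_append, List.mem_replicate, List.mem_cons, List.not_mem_nil,
      or_false] at hp
    rcases hp with ((((⟨-, rfl⟩ | ⟨-, rfl⟩) | ⟨-, rfl⟩) | ⟨-, rfl⟩) | ⟨-, rfl⟩) |
      rfl | rfl | rfl | rfl
    · exact ⟨1, -10 - 9 * x - 8 * x ^ 2 - 7 * x ^ 3 - 5 * x ^ 4 - 4 * x ^ 5 - 3 * x ^ 6 -
        3 * x ^ 7 - 2 * x ^ 8 - x ^ 9, by rw [hM, hR]; ring⟩
    · exact ⟨1, 2 - 3 * x + 2 * x ^ 2 - 3 * x ^ 3 + x ^ 4 - 2 * x ^ 5 + x ^ 6 - x ^ 7 - x ^ 9,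
        by rw [hM, hR]; ring⟩
    · exact ⟨1 - x, 1 - x ^ 2 + x ^ 3 - x ^ 4 + x ^ 5 - x ^ 8 + x ^ 9, by rw [hM, hR]; ring⟩
    · exact ⟨1 - x, 2 + x - 2 * x ^ 2 - x ^ 3 + x ^ 4 + 2 * x ^ 5 - x ^ 6 - x ^ 7 + x ^ 9,
        by rw [hM, hR]; ring⟩
    · exact ⟨-1 + x, 3 + 2 * x - x ^ 2 - 3 * x ^ 3 - x ^ 4 + x ^ 5 + 2 * x ^ 6 - x ^ 8 - x ^ 9,
        by rw [hM, hR]; ring⟩
    · exact ⟨1 - x, x - x ^ 4 + x ^ 7, by rw [hM, hR]; ring⟩
    · exact ⟨6 - 3 * x - x ^ 2 - x ^ 3, -1 - x - x ^ 2 - x ^ 3 - 7 * x ^ 4 - 4 * x ^ 5 +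
        3 * x ^ 6 + 7 * x ^ 7 + 3 * x ^ 8 + x ^ 9, by rw [hM, hR]; ring⟩
    · exact ⟨1 - x, -1 + x - x ^ 2 + x ^ 3 - x ^ 4 + x ^ 5 + x ^ 7, by rw [hM, hR]; ring⟩
    · exact ⟨1 - x, x + x ^ 5, by rw [hM, hR]; ring⟩
  simp only [l, List.map_append, List.map_replicate, List.prod_append, List.prod_replicate,
    List.map_cons, List.map_nil, List.prod_cons, List.prod_nil] at h3
  have hle := Int.le_of_dvd (by norm_num) h3
  norm_num at hle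
  have e10 : (13 : ℤ) ^ 10 ≤ x ^ 10 := pow_le_pow_left₀ (by norm_num) h13 10
  have hxR : x ^ 10 ≤ x * R := by
    rw [show x ^ 10 = x * x ^ 9 by ring]
    refine mul_le_mul_of_nonneg_left ?_ (by linarith)
    have hx0 : (0 : ℤ) ≤ x := by linarith
    have p2 := pow_nonneg hx0 2
    have p3 := pow_nonneg hx0 3
    have p4 := pow_nonneg hx0 4
    have p5 := pow_nonneg hx0 5
    have p7 := pow_nonneg hx0 7
    have p8 := pow_nonneg hx0 8
    rw [hR]; linarith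
  norm_num at e10
  rw [hM] at hle
  linarith

end Cfsg.Agent.H38.E6Deg
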