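import Cfsg.Agent.H38.HeisDeg.Top
import Cfsg.Agent.H37.Twist.E6Perfect

/-!
`²E₆(q)` as an instance: the involution, torus elements and Weyl representatives.
-/
set_option autoImplicit false
set_option maxRecDepth 100000

namespace Cfsg.Agent.H38.E6Deg

open Cfsg.Lie Cfsg.Agent.H37 Cfsg.Agent.H37.RootSys Cfsg.Agent.H37.Twist Cfsg.Agent.H37.Twist.E6
  Cfsg.Agent.H37.NormalForm Cfsg.Agent.H38.HeisDeg

variable {K : Type*} [Field K] [Fintype K] {φ : K →+* K} {q : ℕ}
  (hφ : ∀ t, φ t = t ^ q) (hK : Fintype.card K = q ^ 2)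

theorem rh_facts : ∀ r : Fin 72, tables.rh r.val < 72 ∧ tables.rh (tables.rh r.val) = r.val ∧
    Sym.dataE6.sg (tables.rh r.val) = Sym.dataE6.sg r.val := by decide +kernel

theorem nroots_eq : chevE6.nroots = 72 := by decide +kernel

omit [Fintype K] in
theorem data_K : (QE K).K = Chevalley.E6.cert := rfl

include hφ hK

theorem exists_moved : ∃ t, φ t ≠ t := by
  by_contra h
  push Not at h
  have e := (card_pow_eq_self (K := K) (E6.two_le hK) (E6.sub_dvd hK)).2
  have hall : Nat.card {t : K // t ^ q = t} = Nat.card K :=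
    Nat.card_congr (Equiv.subtypeUnivEquiv fun t => by rw [← hφ]; exact h t)
  rw [hall, Nat.card_eq_fintype_card, hK] at e
  have h2 := E6.two_le hK
  have := Nat.pow_lt_pow_right (show 1 < q by omega) (show 1 < 2 by omega)
  rw [pow_one] at this
  omega

/-- The twisting map with its properties. -/
noncomputable def setup : Setup (QE K) q where
  φ := φ
  φφ t := by rw [hφ, hφ, pow_two_card hK]
  τ := tables.rh
  sg := Sym.dataE6.sg
  τ_lt r hr := by
    rw [nroots_eq] at hr ⊢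
    exact (rh_facts ⟨r, hr⟩).1
  ττ r hr := by
    rw [nroots_eq] at hr
    exact (rh_facts ⟨r, hr⟩).2.1
  sg_pm := Sym.Good.sg_pm (T := Sym.dataE6)
  sg_τ r hr := by
    rw [nroots_eq] at hr
    exact (rh_facts ⟨r, hr⟩).2.2
  σ := (endo φ).σ
  σ_x r hr t := (endo φ).σ_x r hr t
  moved _ _ _ := exists_moved hφ hK
  pt r _ _ := by
    rcases Sym.Good.sg_pm (T := Sym.dataE6) r with h | h
    · exact ⟨1, one_ne_zero, by rw [h]; simp⟩
    · obtain ⟨t, ht⟩ := exists_moved hφ hK
      refine ⟨t - φ t, sub_ne_zero.2 (Ne.symm ht), ?_⟩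
      rw [h, map_sub, show φ (φ t) = t by rw [hφ, hφ, pow_two_card hK]]
      simp
  q_two := E6.two_le hK
  cardF := (Nat.card_congr (Equiv.subtypeEquivRight fun t => by rw [hφ])).trans
    (card_pow_eq_self (E6.two_le hK) (E6.sub_dvd hK)).2
  cardK _ _ _ := by rw [Nat.card_eq_fintype_card, hK]

theorem setup_τ : (setup hφ hK).τ = tables.rh := rfl

/-- A fundamental coordinate with pairing one up to sign. -/
def torB (z : ℕ) : Bool :=
  [1, 3].any fun i => decide (chevE6.cartan i z = 1) || decide (chevE6.cartan i z = -1)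

theorem torus_at {z : ℕ} (h : torB z = true) : (setup hφ hK).TorusAt z := by
  intro μ hμ
  have hμ' : μ ^ q = μ := Units.ext (by
    rw [Units.val_pow_eq_pow_val, ← hφ]; exact hμ)
  have hinv : μ⁻¹ ^ q = μ⁻¹ := by rw [inv_pow, hμ']
  have h1 : (1 : Kˣ) ^ q = 1 := one_pow q
  suffices ∀ (i : Fin chevE6.rank), i.val = 1 ∨ i.val = 3 → ∀ ν : Kˣ, ν ^ q = ν →
      ν ^ chevE6.cartan i.val z = μ →
      ∃ c : Fin chevE6.rank → Kˣ, (setup hφ hK).σ (tG (QE K) c) = tG (QE K) c ∧ chT c z = μ by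
    simp only [torB, List.any_cons, List.any_nil, Bool.or_false, Bool.or_eq_true,
      decide_eq_true_eq] at h
    rcases h with (h | h) | (h | h)
    · exact this ⟨1, by decide⟩ (Or.inl rfl) μ hμ' (by rw [h, zpow_one])
    · exact this ⟨1, by decide⟩ (Or.inl rfl) μ⁻¹ hinv (by rw [h, zpow_neg_one, inv_inv])
    · exact this ⟨3, by decide⟩ (Or.inr rfl) μ hμ' (by rw [h, zpow_one])
    · exact this ⟨3, by decide⟩ (Or.inr rfl) μ⁻¹ hinv (by rw [h, zpow_neg_one, inv_inv])
  intro i hi ν hν hz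
  have key : ∀ c : {c : Fin chevE6.rank → Kˣ // (endo φ).hat (fun _ => q) c = c},
      (endo φ).σ (tG (QE K) c.1) = tG (QE K) c.1 := fun c => by
    rw [(endo φ).σ_tG (noSign hφ), c.2]
  rcases hi with hi | hi
  · refine ⟨((fixParam (φ := φ) hK).symm ((1, 1), (⟨ν, hν⟩, ⟨1, h1⟩))).1, key _, ?_⟩
    obtain rfl : i = ⟨1, by decide⟩ := Fin.ext hi
    show ∏ m : Fin 6, (![1, ν, 1, 1, (1 : Kˣ) ^ q, (1 : Kˣ) ^ q] : Fin 6 → Kˣ) m ^
      chevE6.cartan m.val z = μ
    simpa [Fin.prod_univ_six] using hz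
  · refine ⟨((fixParam (φ := φ) hK).symm ((1, 1), (⟨1, h1⟩, ⟨ν, hν⟩))).1, key _, ?_⟩
    obtain rfl : i = ⟨3, by decide⟩ := Fin.ext hi
    show ∏ m : Fin 6, (![1, 1, 1, ν, (1 : Kˣ) ^ q, (1 : Kˣ) ^ q] : Fin 6 → Kˣ) m ^
      chevE6.cartan m.val z = μ
    simpa [Fin.prod_univ_six] using hz

/-- The word of a list of orbits. -/
def wd (os : List (Fin 4)) : List ℕ := (os.map fun o => H37.Fold.dataE6.word o.val).flatten

theorem block_fixed (j : Fin 4) :
    (endo φ).σ (nw (QE K) (H37.Fold.dataE6.word j.val)) = nw (QE K) (H37.Fold.dataE6.word j.val) := by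
  obtain ⟨n1, n2, n3, n4, n5, n6⟩ := neg_ok
  obtain ⟨s0, s1, s2, s3, s4, s5⟩ := simple_ok
  have h1 : (1 : K) ^ q = 1 := one_pow q
  refine le_fixed hφ hK _ ?_
  fin_cases j <;>
    simp only [nw, H37.Fold.Data.word, H37.Fold.dataE6, List.getD_cons_zero, List.getD_cons_succ,
      List.map_cons, List.map_nil, List.prod_cons, List.prod_nil, mul_one, s0, s1, s2, s3, s4, s5]
  · have := (nh_pair_mem hφ (r := 56) (s := 36) (by decide) (by decide) n1 n2 orth_ok.1 (1 : K)).1
    rwa [h1] at this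
  · have := (nh_pair_mem hφ (r := 42) (s := 37) (by decide) (by decide) n3 n4 orth_ok.2 (1 : K)).1
    rwa [h1] at this
  · exact (nh_single_mem hφ (r := 39) (by decide) (by decide) n5 h1).1
  · exact (nh_single_mem hφ (r := 46) (by decide) (by decide) n6 h1).1

theorem word_fixed : ∀ os : List (Fin 4),
    (setup hφ hK).σ (nw (QE K) (wd os)) = nw (QE K) (wd os)
  | [] => by simp [wd, nw]
  | o :: os => by
      have e : nw (QE K) (wd (o :: os)) =
          nw (QE K) (H37.Fold.dataE6.word o.val) * nw (QE K) (wd os) := by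
        simp [nw, wd, List.prod_append]
      rw [e, map_mul, word_fixed os]
      exact congrArg (· * _) (block_fixed hφ hK o)

end Cfsg.Agent.H38.E6Deg
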