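import Cfsg.Agent.H38.E6Deg.Bound
import Cfsg.Agent.H38.E6Deg.Divis
import Cfsg.Agent.CharBasic.Integral

/-!
The smallest degree of a non-linear irreducible representation of `²E₆(q)`.
-/
set_option autoImplicit false
set_option maxRecDepth 100000

namespace Cfsg.Agent.H38.E6Deg

open Cfsg.Lie Cfsg.Agent.H37 Cfsg.Agent.H37.RootSys Cfsg.Agent.H37.Twist Cfsg.Agent.H37.Twist.E6
  Cfsg.Agent.H37.NormalForm Cfsg.Agent.H38.HeisDeg Module

variable {K : Type*} [Field K] [Fintype K] {φ : K →+* K} {q : ℕ}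
  (hφ : ∀ t, φ t = t ^ q) (hK : Fintype.card K = q ^ 2)

/-- Fixed points lie in the twisted group. -/
def toT : ↥(setup hφ hK).P →* ↥(twistedE6 K q) where
  toFun g := ⟨((g : ↥(chevE6.group K)) : GL chevE6.Idx K),
    (SetLike.ext_iff.1 (model hφ hK).fixed_eq (g : ↥(chevE6.group K))).2 g.2⟩
  map_one' := rfl
  map_mul' _ _ := rfl

include hφ hK

/-- The lower bound. -/
theorem degree_bound (hqp : IsPrimePow q) {k : ℕ}
    (ρ : Representation ℂ ↥(twistedE6 K q) (Fin k → ℂ)) (hirr : ρ.IsIrreducible) (hk : 2 ≤ k) :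
    q * (q ^ 6 - q ^ 3 + 1) * (q ^ 4 + 1) ≤ k := by
  haveI := hirr
  obtain ⟨hsimple, -⟩ := E6.simple hφ hK
  have hfr : finrank ℂ (Fin k → ℂ) = k := by simp
  have h71 : HeisDeg.Ab chevE6 (setup hφ hK).τ [71] :=
    Ab.of_check (by (try simp only [setup_τ]); decide +kernel)
  have hov : (setup hφ hK).ov 71 1 ∈ (setup hφ hK).FV [71] := by
    have h := (setup hφ hK).ov_mem (r := 71) (h71.lt (by simp)) (t := (1 : K)) fun _ => by
      rw [Setup.f_apply, map_one, mul_one]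
      show ((Sym.dataE6.sg 71 : ℤ) : K) = 1
      rw [show Sym.dataE6.sg 71 = 1 by decide +kernel, Int.cast_one]
    rwa [(setup hφ hK).orb_fixed (show (setup hφ hK).τ 71 = 71 by
      (try simp only [setup_τ]); decide +kernel)] at h
  set z := (setup hφ hK).el h71 ⟨_, hov⟩ with hz
  have hne : toT hφ hK z ≠ 1 := fun e => one_ne_zero (α := K) (by
    have e1 : (z : ↥(chevE6.group K)) = 1 :=
      Subtype.ext (congrArg (fun g : ↥(twistedE6 K q) => (g : GL chevE6.Idx K)) e)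
    rw [hz, Setup.coe_el] at e1
    simp only [xprod, List.map_singleton, List.prod_singleton, Setup.ov, if_true] at e1
    refine xG_inj (QE K) (r := 71) (h71.lt (by simp)) (e1.trans ?_)
    exact ((QE K).sys.x_zero' (h71.lt (by simp))).symm)
  have hmv : ρ (toT hφ hK z) ≠ 1 := by
    intro h
    haveI := hsimple
    rcases hsimple.eq_bot_or_eq_top_of_normal _ (MonoidHom.normal_ker ρ) with hb | ht
    · exact hne (Subgroup.mem_bot.1 (hb ▸ (h : toT hφ hK z ∈ MonoidHom.ker ρ)))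
    · have hall : ∀ g, ρ g = 1 := fun g => (ht ▸ Subgroup.mem_top g : g ∈ MonoidHom.ker ρ)
      let W : Subrepresentation ρ := ⟨Submodule.span ℂ {Pi.single (⟨0, by omega⟩ : Fin k) 1},
        fun g v hv => by rw [hall]; exact hv⟩
      rcases eq_bot_or_eq_top W with hW | hW
      · have h1 : (Pi.single (⟨0, by omega⟩ : Fin k) (1 : ℂ) : Fin k → ℂ) ∈ W.toSubmodule :=
          Submodule.mem_span_singleton_self _
        rw [hW] at h1
        simpa using congrFun h1 ⟨0, by omega⟩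
      · have h1 : W.toSubmodule = ⊤ := by rw [hW]; rfl
        have := congrArg (fun S : Submodule ℂ (Fin k → ℂ) => finrank ℂ S) h1
        simp only [W, finrank_top, hfr] at this
        rw [finrank_span_singleton (by simp)] at this
        omega
  have hb := bound hφ hK (ρ.comp (toT hφ hK)) ⟨h71, _, hmv⟩
  rw [hfr] at hb
  have hdvd := CharBasic.finrank_dvd_card ρ
  rw [hfr] at hdvd
  have hdP : k ∣ ordP q := by
    rw [ordP, ← card_group hφ hK]
    exact hdvd.trans (Dvd.intro_left _ rfl)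
  have hq := E6.two_le hK
  have n1 : k + q ^ 8 + q ^ 4 + 1 ≠ q ^ 11 + q ^ 7 + q ^ 5 + q :=
    fun e => one_below_not_dvd hq e hdP
  have n2 : k + q ^ 8 + q ^ 4 + 2 ≠ q ^ 11 + q ^ 7 + q ^ 5 + q :=
    fun e => two_below_not_dvd hqp e hdP
  have h36 : q ^ 3 ≤ q ^ 6 := Nat.pow_le_pow_right (by omega) (by omega)
  have hid : q * (q ^ 6 - q ^ 3 + 1) * (q ^ 4 + 1) + q ^ 8 + q ^ 4 =
      q ^ 11 + q ^ 7 + q ^ 5 + q := by
    obtain ⟨w, hw⟩ : ∃ w, q ^ 6 = q ^ 3 + w := ⟨q ^ 6 - q ^ 3, by omega⟩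
    rw [hw, Nat.add_sub_cancel_left]
    have e7 : q ^ 7 = q * (q ^ 3 + w) := by rw [← hw]; ring
    have e11 : q ^ 11 = q ^ 5 * (q ^ 3 + w) := by rw [← hw]; ring
    rw [e7, e11]; ring
  omega

end Cfsg.Agent.H38.E6Deg
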